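import Mathlib
import Groth.Agent.H61.Lift.RegSheaf

set_option linter.style.haveILetI false
set_option linter.unusedSectionVars false
set_option autoImplicit false

/-!
# Transport of the extension property along an equivalence of abelian categories
-/

open CategoryTheory CategoryTheory.Limits

namespace Groth.Agent.H61.Rep

universe u

open Groth.Agent.H61.Lift

/-- the extension property is reflected by an equivalence. -/
theorem extProp_of_equivalence {C D : Type (u + 1)} [Category.{u} C] [Abelian C]
    [Category.{u} D] [Abelian D] (L : C ⥤ D) [L.IsEquivalence] {N Q : C}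
    (h : ExtProp (L.obj N) (L.obj Q)) : ExtProp N Q := by
  intro O P a v w γ hv hex hk
  haveI := hv
  haveI : L.PreservesZeroMorphisms := inferInstance
  have w' : L.map a ≫ L.map v = 0 := by rw [← L.map_comp, w, L.map_zero]
  have hex' : (ShortComplex.mk (L.map a) (L.map v) w').Exact := hex.map L
  have hk' : kernel.ι (L.map a) ≫ L.map γ = 0 := by
    have h1 : kernelComparison a L ≫ kernel.ι (L.map a) = L.map (kernel.ι a) :=
      kernelComparison_comp_ι a L
    haveI : IsIso (kernelComparison a L) := inferInstance
    rw [← cancel_epi (kernelComparison a L), ← Category.assoc, h1, ← L.map_comp, hk, L.map_zero,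
      comp_zero]
  obtain ⟨r', hr'⟩ := h _ _ (L.map a) (L.map v) w' (L.map γ) inferInstance hex' hk'
  obtain ⟨r₀, rfl⟩ := L.map_surjective r'
  refine ⟨r₀, L.map_injective ?_⟩
  rw [L.map_comp, hr']

end Groth.Agent.H61.Rep
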