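import Mathlib
import Groth.Prelude.Def_FGA

set_option linter.style.haveILetI false
set_option linter.unusedSectionVars false
set_option autoImplicit false

/-!
# Pulling back families of closed subschemes: functoriality and base change
-/

open CategoryTheory CategoryTheory.Limits AlgebraicGeometry

namespace Groth.Agent.H61.Rep

universe u

variable {X S : Scheme.{u}} (f : X ⟶ S)

theorem XTmap_id (T : Over S) : PicF.XTmap f (𝟙 T) = 𝟙 (PicF.XT f T) := by
  apply pullback.hom_ext <;> simp [PicF.XTmap]

theorem XTmap_comp {T T' T'' : Over S} (g' : T'' ⟶ T') (g : T' ⟶ T) :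
    PicF.XTmap f (g' ≫ g) = PicF.XTmap f g' ≫ PicF.XTmap f g := by
  apply pullback.hom_ext <;>
    simp only [PicF.XTmap, pullback.map, Over.comp_left, pullback.lift_fst, pullback.lift_snd,
      Category.assoc, pullback.lift_fst_assoc, pullback.lift_snd_assoc, Category.comp_id]

theorem XTmap_XTproj {T T' : Over S} (g : T' ⟶ T) :
    PicF.XTmap f g ≫ PicF.XTproj f T = PicF.XTproj f T' ≫ g.left := by
  simp only [PicF.XTmap, PicF.XTproj, pullback.map, pullback.lift_snd]

/-- `X_{T'} = X_T ×_T T'`. -/
theorem isPullback_XTmap {T T' : Over S} (g : T' ⟶ T) :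
    IsPullback (PicF.XTmap f g) (PicF.XTproj f T') (PicF.XTproj f T) g.left := by
  refine IsPullback.of_right ?_ (XTmap_XTproj f g) (IsPullback.of_hasPullback f T.hom)
  rw [FGA.XTmap_fst, Over.w g]
  exact IsPullback.of_hasPullback f T'.hom

theorem hilbPull_eq_comap {T T' : Over S} (g : T' ⟶ T) (I : (PicF.XT f T).IdealSheafData) :
    FGA.hilbPull f g I = I.comap (PicF.XTmap f g) := by
  unfold FGA.hilbPull Scheme.IdealSheafData.comap
  rw [← pullbackSymmetry_hom_comp_fst, Scheme.Hom.ker_comp_of_isIso]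

theorem hilbPull_comp {T T' T'' : Over S} (g' : T'' ⟶ T') (g : T' ⟶ T)
    (I : (PicF.XT f T).IdealSheafData) :
    FGA.hilbPull f (g' ≫ g) I = FGA.hilbPull f g' (FGA.hilbPull f g I) := by
  rw [hilbPull_eq_comap, hilbPull_eq_comap, hilbPull_eq_comap, XTmap_comp,
    Scheme.IdealSheafData.comap_comp]

theorem hilbPull_id {T : Over S} (I : (PicF.XT f T).IdealSheafData) :
    FGA.hilbPull f (𝟙 T) I = I := by
  rw [hilbPull_eq_comap, XTmap_id, Scheme.IdealSheafData.comap_id]

/-- a property of morphisms stable under base change passes to pulled back families. -/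
theorem prop_hilbPull (P : MorphismProperty Scheme.{u}) [P.IsStableUnderBaseChange]
    [P.RespectsIso] {T T' : Over S} (g : T' ⟶ T) (I : (PicF.XT f T).IdealSheafData)
    (hI : P (I.subschemeι ≫ PicF.XTproj f T)) :
    P ((FGA.hilbPull f g I).subschemeι ≫ PicF.XTproj f T') := by
  rw [hilbPull_eq_comap]
  have sq : IsPullback (pullback.snd (PicF.XTmap f g) I.subschemeι)
      (pullback.fst (PicF.XTmap f g) I.subschemeι ≫ PicF.XTproj f T')
      (I.subschemeι ≫ PicF.XTproj f T) g.left :=
    IsPullback.paste_vert (IsPullback.of_hasPullback (PicF.XTmap f g) I.subschemeι).flip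
      (isPullback_XTmap f g)
  have h : P (pullback.fst (PicF.XTmap f g) I.subschemeι ≫ PicF.XTproj f T') :=
    MorphismProperty.of_isPullback sq hI
  rw [← Scheme.IdealSheafData.comapIso_hom_fst, Category.assoc]
  exact (MorphismProperty.cancel_left_of_respectsIso P (I.comapIso (PicF.XTmap f g)).hom _).2 h

/-- pulling back an element of the Hilbert functor. -/
noncomputable def hilbPullSet {T T' : Over S} (g : T' ⟶ T) (Z : FGA.HilbSet f T) :
    FGA.HilbSet f T' :=
  ⟨FGA.hilbPull f g Z.1, prop_hilbPull f @IsProper g Z.1 Z.2.1, prop_hilbPull f @Flat g Z.1 Z.2.2⟩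

lemma hilbPullSet_val {T T' : Over S} (g : T' ⟶ T) (Z : FGA.HilbSet f T) :
    (hilbPullSet f g Z).1 = FGA.hilbPull f g Z.1 := rfl

end Groth.Agent.H61.Rep
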