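import Mathlib
import Groth.Prelude.Def_ArtFun6

set_option linter.style.haveILetI false
set_option linter.unusedSectionVars false
set_option autoImplicit false

/-!
# Morphisms from Artinian local schemes to a `k`-scheme at a `k`-point

For a scheme `H` over `Spec k` and a `k`-point `h`, the morphisms `Spec A ⟶ H` over `k` restricting to
`h` on the closed point are the augmented `k`-algebra maps `O_{H,h} → A`.
-/

open CategoryTheory CategoryTheory.Limits AlgebraicGeometry ArtFun ArtFun.Art

namespace Groth.Agent.H61.Rep

universe u

section General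

variable {X : Scheme.{u}} {R : CommRingCat.{u}} [IsLocalRing R]

/-- a morphism from a local scheme factors through the local ring of the image of the closed
point. -/
lemma exists_factor_fromSpecStalk (g : Spec R ⟶ X) (x : X) (hx : g (IsLocalRing.closedPoint R) = x) :
    ∃ φ : X.presheaf.stalk x ⟶ R, Spec.map φ ≫ X.fromSpecStalk x = g := by
  subst hx
  exact ⟨Scheme.stalkClosedPointTo g, Scheme.Spec_stalkClosedPointTo_fromSpecStalk g⟩

end General

variable {k : Type u} [Field k] (H : Over (Spec (CommRingCat.of k)))
  (h : Over.mk (𝟙 (Spec (CommRingCat.of k))) ⟶ H)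

/-- the local ring of `H` at the point `h`. -/
abbrev Rg : Type u := H.left.presheaf.stalk (h.left.base (IsLocalRing.closedPoint k))

/-- the structure map `k → O_{H,h}`. -/
noncomputable def kappa : CommRingCat.of k ⟶
    H.left.presheaf.stalk (h.left.base (IsLocalRing.closedPoint k)) :=
  Spec.preimage (H.left.fromSpecStalk (h.left.base (IsLocalRing.closedPoint k)) ≫ H.hom)

lemma Spec_map_kappa : Spec.map (kappa H h) =
    H.left.fromSpecStalk (h.left.base (IsLocalRing.closedPoint k)) ≫ H.hom :=
  Spec.map_preimage _

/-- the residue map `O_{H,h} → k`. -/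
noncomputable def res₀ : H.left.presheaf.stalk (h.left.base (IsLocalRing.closedPoint k)) ⟶
    CommRingCat.of k :=
  Scheme.stalkClosedPointTo h.left

lemma Spec_map_res₀ : Spec.map (res₀ H h) ≫
    H.left.fromSpecStalk (h.left.base (IsLocalRing.closedPoint k)) = h.left :=
  Scheme.Spec_stalkClosedPointTo_fromSpecStalk h.left

lemma kappa_res₀ : kappa H h ≫ res₀ H h = 𝟙 _ := by
  apply Spec.map_injective
  rw [Spec.map_comp, Spec_map_kappa, ← Category.assoc, Spec_map_res₀, Spec.map_id]
  exact Over.w h

/-- the `k`-algebra structure of the local ring. -/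
@[instance_reducible]
noncomputable def algRg : Algebra k (Rg H h) := (kappa H h).hom.toAlgebra

attribute [local instance] algRg

lemma algebraMap_Rg (c : k) : algebraMap k (Rg H h) c = (kappa H h).hom c := rfl

/-- the augmentation. -/
noncomputable def res : Rg H h →ₐ[k] k :=
  { (res₀ H h).hom with
    commutes' := fun c => by
      change (res₀ H h).hom ((kappa H h).hom c) = c
      have := congrArg (fun f : CommRingCat.of k ⟶ CommRingCat.of k => f.hom c) (kappa_res₀ H h)
      exact this }

lemma res_apply (r : Rg H h) : res H h r = (res₀ H h).hom r := rfl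

section Mor

variable (A : Art k k)

/-- the closed point of `Spec A`, as a morphism over `k`. -/
noncomputable def closedPt : Over.mk (𝟙 (Spec (CommRingCat.of k))) ⟶ Over.mk (specOver A) :=
  Over.homMk (specRes A) (by
    change specRes A ≫ specMap (ofBase A) = 𝟙 _
    rw [specRes_comp]
    change Spec.map (CommRingCat.ofHom (RingHom.id k)) = 𝟙 _
    rw [CommRingCat.ofHom_id, Spec.map_id])

lemma closedPt_left : (closedPt A).left = specRes A := rfl

/-- the morphism attached to an augmented algebra map. -/
noncomputable def toMor (φ : HomSet (Rg H h) (res H h) A) : Over.mk (specOver A) ⟶ H :=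
  Over.homMk (Spec.map (CommRingCat.ofHom φ.1.toRingHom) ≫
      H.left.fromSpecStalk (h.left.base (IsLocalRing.closedPoint k))) (by
    change (Spec.map (CommRingCat.ofHom φ.1.toRingHom) ≫
      H.left.fromSpecStalk (h.left.base (IsLocalRing.closedPoint k))) ≫ H.hom = specOver A
    rw [Category.assoc, ← Spec_map_kappa, ← Spec.map_comp]
    congr 1
    ext c
    exact φ.1.commutes c)

lemma toMor_left (φ : HomSet (Rg H h) (res H h) A) :
    (toMor H h A φ).left = Spec.map (CommRingCat.ofHom φ.1.toRingHom) ≫
      H.left.fromSpecStalk (h.left.base (IsLocalRing.closedPoint k)) := rfl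

lemma closedPt_toMor (φ : HomSet (Rg H h) (res H h) A) : closedPt A ≫ toMor H h A φ = h := by
  apply Over.OverMorphism.ext
  rw [Over.comp_left, closedPt_left, toMor_left, ← Category.assoc]
  change (Spec.map (CommRingCat.ofHom A.res.toRingHom) ≫
    Spec.map (CommRingCat.ofHom φ.1.toRingHom)) ≫ _ = _
  rw [← Spec.map_comp]
  refine Eq.trans ?_ (Spec_map_res₀ H h)
  congr 2
  ext r
  exact congrArg (fun f : Rg H h →ₐ[k] k => f r) φ.2

lemma toMor_injective : Function.Injective (toMor H h A) := by
  intro φ ψ hφψ
  have h1 : (toMor H h A φ).left = (toMor H h A ψ).left := by rw [hφψ]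
  rw [toMor_left, toMor_left, cancel_mono] at h1
  have h2 := Spec.map_injective h1
  apply Subtype.ext
  apply AlgHom.ext
  intro r
  exact congrArg (fun f : CommRingCat.of (Rg H h) ⟶ CommRingCat.of A => f.hom r) h2

instance isLocalHom_res : IsLocalHom (CommRingCat.ofHom A.res.toRingHom).hom :=
  IsLocalHom.of_surjective _ A.res_surjective

lemma specRes_closedPoint : (specRes A) (IsLocalRing.closedPoint k) = IsLocalRing.closedPoint A :=
  Spec_closedPoint

/-- every morphism restricting to `h` comes from an augmented algebra map. -/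
lemma exists_toMor_eq (g : Over.mk (specOver A) ⟶ H) (hg : closedPt A ≫ g = h) :
    ∃ φ : HomSet (Rg H h) (res H h) A, toMor H h A φ = g := by
  have hgl : specRes A ≫ g.left = h.left := by
    have h0 : (closedPt A ≫ g).left = h.left := by rw [hg]
    exact h0
  have hpt : g.left (IsLocalRing.closedPoint (CommRingCat.of A)) =
      h.left.base (IsLocalRing.closedPoint k) := by
    have h1 : (specRes A ≫ g.left) (IsLocalRing.closedPoint k) =
        h.left (IsLocalRing.closedPoint k) := by rw [hgl]
    rw [Scheme.Hom.comp_apply, specRes_closedPoint] at h1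
    exact h1
  obtain ⟨φ', hφ'⟩ := exists_factor_fromSpecStalk g.left _ hpt
  -- `φ'` is `k`-linear
  have hk : kappa H h ≫ φ' = CommRingCat.ofHom (ofBase A).toAlgHom.toRingHom := by
    apply Spec.map_injective
    rw [Spec.map_comp, Spec_map_kappa, ← Category.assoc, hφ']
    exact Over.w g
  -- `φ'` is augmented
  have hr : φ' ≫ CommRingCat.ofHom A.res.toRingHom = res₀ H h := by
    apply Spec.map_injective
    rw [← cancel_mono (H.left.fromSpecStalk (h.left.base (IsLocalRing.closedPoint k))),
      Spec_map_res₀, Spec.map_comp, Category.assoc, hφ']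
    exact hgl
  let φa : Rg H h →ₐ[k] A :=
    { φ'.hom with
      commutes' := fun c => by
        have := congrArg (fun f : CommRingCat.of k ⟶ CommRingCat.of A => f.hom c) hk
        exact this }
  refine ⟨⟨φa, ?_⟩, ?_⟩
  · apply AlgHom.ext
    intro r
    have := congrArg (fun f : H.left.presheaf.stalk (h.left.base (IsLocalRing.closedPoint k)) ⟶
      CommRingCat.of k => f.hom r) hr
    exact this
  · apply Over.OverMorphism.ext
    rw [toMor_left]
    exact hφ'

/-- **augmented algebra maps out of the local ring are the morphisms restricting to `h`.** -/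
noncomputable def morEquiv :
    HomSet (Rg H h) (res H h) A ≃ {g : Over.mk (specOver A) ⟶ H // closedPt A ≫ g = h} :=
  Equiv.ofBijective (fun φ => ⟨toMor H h A φ, closedPt_toMor H h A φ⟩)
    ⟨fun φ ψ hφψ => toMor_injective H h A (congrArg Subtype.val hφψ),
      fun g => by
        obtain ⟨φ, hφ⟩ := exists_toMor_eq H h A g.1 g.2
        exact ⟨φ, Subtype.ext hφ⟩⟩

lemma morEquiv_apply (φ : HomSet (Rg H h) (res H h) A) :
    (morEquiv H h A φ).1 = toMor H h A φ := rfl

end Mor

section Nat

variable {A A' : Art k k} (u : A ⟶ A')

/-- the morphism of `k`-schemes `Spec A' ⟶ Spec A`. -/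
noncomputable def specHom : Over.mk (specOver A') ⟶ Over.mk (specOver A) :=
  Over.homMk (specMap u) (specOver_comp u)

lemma specHom_left : (specHom u).left = specMap u := rfl

lemma closedPt_specHom : closedPt A' ≫ specHom u = closedPt A := by
  apply Over.OverMorphism.ext
  rw [Over.comp_left, closedPt_left, closedPt_left, specHom_left]
  exact specRes_comp u

lemma toMor_map (φ : HomSet (Rg H h) (res H h) A) :
    toMor H h A' (HomSet.map u φ) = specHom u ≫ toMor H h A φ := by
  apply Over.OverMorphism.ext
  rw [Over.comp_left, toMor_left, toMor_left, specHom_left, ← Category.assoc]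
  change _ = (Spec.map (CommRingCat.ofHom u.toAlgHom.toRingHom) ≫
    Spec.map (CommRingCat.ofHom φ.1.toRingHom)) ≫ _
  rw [← Spec.map_comp]
  rfl

end Nat

end Groth.Agent.H61.Rep
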