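import Mathlib
import Groth.Agent.H61.Rep.HilbPull
import Groth.Agent.H61.Rep.Point

set_option linter.style.haveILetI false
set_option linter.unusedSectionVars false
set_option autoImplicit false

/-!
# The local ring of a Hilbert scheme pro-represents the local Hilbert functor

For a proper `k`-scheme `Y`, a pair `(H, Z)` representing the Hilbert functor on locally Noetherian
`k`-schemes and a `k`-point `h` of `H` classifying `I₀ ⊆ O_Y`, the functor `h_R` of the local ring
`R = O_{H,h}` is isomorphic to the local Hilbert functor of `I₀`.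
-/

open CategoryTheory CategoryTheory.Limits AlgebraicGeometry ArtFun ArtFun.Art

namespace Groth.Agent.H61.Rep

universe u

variable {k : Type u} [Field k] {Y : Scheme.{u}} (y : Y ⟶ Spec (CommRingCat.of k))

attribute [local instance] algRg

section Fibre

variable (A : Art k k)

lemma XTmap_closedPt :
    PicF.XTmap y (closedPt A) =
      pullback.fst y (Over.mk (𝟙 (Spec (CommRingCat.of k)))).hom ≫ XAincl y A := by
  apply pullback.hom_ext
  · rw [Category.assoc]
    erw [FGA.XTmap_fst y (closedPt A), XAincl_fst]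
    rw [Category.comp_id]
  · rw [Category.assoc]
    erw [XTmap_XTproj y (closedPt A), XAincl_snd]
    rw [closedPt_left, ← Category.assoc]
    congr 1
    have : pullback.fst y (Over.mk (𝟙 (Spec (CommRingCat.of k)))).hom ≫ y =
        pullback.snd y (Over.mk (𝟙 (Spec (CommRingCat.of k)))).hom ≫
          (Over.mk (𝟙 (Spec (CommRingCat.of k)))).hom := pullback.condition
    rw [this]
    exact (Category.comp_id (pullback.snd y (Over.mk (𝟙 (Spec (CommRingCat.of k)))).hom)).symm

/-- restriction to the closed point, in terms of the inclusion of the closed fibre. -/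
lemma hilbPull_closedPt (I : (XA y A).IdealSheafData) :
    FGA.hilbPull y (closedPt A) I =
      (I.comap (XAincl y A)).comap
        (pullback.fst y (Over.mk (𝟙 (Spec (CommRingCat.of k)))).hom) := by
  rw [hilbPull_eq_comap, ← Scheme.IdealSheafData.comap_comp, XTmap_closedPt]

lemma comap_fst_injective (I J : Y.IdealSheafData)
    (hIJ : I.comap (pullback.fst y (Over.mk (𝟙 (Spec (CommRingCat.of k)))).hom) =
      J.comap (pullback.fst y (Over.mk (𝟙 (Spec (CommRingCat.of k)))).hom)) : I = J := by
  haveI : IsIso (Over.mk (𝟙 (Spec (CommRingCat.of k)))).hom :=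
    inferInstanceAs (IsIso (𝟙 (Spec (CommRingCat.of k))))
  haveI : IsIso (pullback.fst y (Over.mk (𝟙 (Spec (CommRingCat.of k)))).hom) := inferInstance
  have h1 := congrArg (fun K => Scheme.IdealSheafData.comap K
    (inv (pullback.fst y (Over.mk (𝟙 (Spec (CommRingCat.of k)))).hom))) hIJ
  simp only [← Scheme.IdealSheafData.comap_comp, IsIso.inv_hom_id,
    Scheme.IdealSheafData.comap_id] at h1
  exact h1

end Fibre

section Main

variable [IsProper y] (H : Over (Spec (CommRingCat.of k))) (Z : FGA.HilbSet y H)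
  (hH : FGA.HilbRepresentedBy y H Z) (h : Over.mk (𝟙 (Spec (CommRingCat.of k))) ⟶ H)
  (I₀ : Y.IdealSheafData)
  (hh : FGA.hilbPull y h Z.1 =
    I₀.comap (pullback.fst y (Over.mk (𝟙 (Spec (CommRingCat.of k)))).hom))

include hh in
/-- the element of the local Hilbert functor classified by a morphism restricting to `h`. -/
lemma comap_XAincl_hilbPull (A : Art k k) (g : Over.mk (specOver A) ⟶ H)
    (hg : closedPt A ≫ g = h) :
    (FGA.hilbPull y g Z.1).comap (XAincl y A) = I₀ := by
  apply comap_fst_injective y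
  rw [← hilbPull_closedPt, ← hilbPull_comp, hg, hh]

/-- the map from morphisms restricting to `h` to the local Hilbert functor. -/
noncomputable def toHilb (A : Art k k)
    (g : {g : Over.mk (specOver A) ⟶ H // closedPt A ≫ g = h}) :
    (localHilb Y y I₀).obj A :=
  ⟨FGA.hilbPull y g.1 Z.1, prop_hilbPull y @Flat g.1 Z.1 Z.2.2,
    comap_XAincl_hilbPull y H Z h I₀ hh A g.1 g.2⟩

lemma toHilb_val (A : Art k k) (g : {g : Over.mk (specOver A) ⟶ H // closedPt A ≫ g = h}) :
    (toHilb y H Z h I₀ hh A g).1 = FGA.hilbPull y g.1 Z.1 := rfl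

include hH in
lemma toHilb_bijective (A : Art k k) : Function.Bijective (toHilb y H Z h I₀ hh A) := by
  haveI : IsLocallyNoetherian (Over.mk (specOver A)).left :=
    inferInstanceAs (IsLocallyNoetherian (Spec (CommRingCat.of A)))
  haveI : IsLocallyNoetherian (Over.mk (𝟙 (Spec (CommRingCat.of k)))).left :=
    inferInstanceAs (IsLocallyNoetherian (Spec (CommRingCat.of k)))
  constructor
  · intro g g' hgg'
    have h1 : FGA.hilbPull y g.1 Z.1 = FGA.hilbPull y g'.1 Z.1 := congrArg Subtype.val hgg'
    obtain ⟨g₀, -, huniq⟩ := hH.2 (Over.mk (specOver A)) (hilbPullSet y g.1 Z)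
    apply Subtype.ext
    rw [huniq g.1 rfl, huniq g'.1 h1.symm]
  · intro I
    have hprop : IsProper (I.1.subschemeι ≫ PicF.XTproj y (Over.mk (specOver A))) := by
      haveI : IsProper (PicF.XTproj y (Over.mk (specOver A))) :=
        MorphismProperty.pullback_snd (P := @IsProper) y _ inferInstance
      infer_instance
    obtain ⟨g, hg, -⟩ := hH.2 (Over.mk (specOver A)) ⟨I.1, hprop, I.2.1⟩
    have hg' : FGA.hilbPull y g Z.1 = I.1 := hg
    have hgh : closedPt A ≫ g = h := by
      obtain ⟨g₀, -, huniq⟩ := hH.2 (Over.mk (𝟙 (Spec (CommRingCat.of k)))) (hilbPullSet y h Z)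
      rw [huniq h rfl]
      apply huniq
      change FGA.hilbPull y (closedPt A ≫ g) Z.1 = FGA.hilbPull y h Z.1
      rw [hilbPull_comp, hg', hilbPull_closedPt, I.2.2, hh]
    exact ⟨⟨g, hgh⟩, Subtype.ext hg'⟩

/-- **the local ring of the Hilbert scheme pro-represents the local Hilbert functor.** -/
noncomputable def hilbEquiv (A : Art k k) :
    HomSet (Rg H h) (res H h) A ≃ (localHilb Y y I₀).obj A :=
  (morEquiv H h A).trans (Equiv.ofBijective _ (toHilb_bijective y H Z hH h I₀ hh A))

lemma hilbEquiv_val (A : Art k k) (φ : HomSet (Rg H h) (res H h) A) :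
    (hilbEquiv y H Z hH h I₀ hh A φ).1 = FGA.hilbPull y (toMor H h A φ) Z.1 := rfl

/-- naturality. -/
theorem hilbEquiv_map {A A' : Art k k} (u : A ⟶ A') (φ : HomSet (Rg H h) (res H h) A) :
    hilbEquiv y H Z hH h I₀ hh A' (HomSet.map u φ) =
      (localHilb Y y I₀).map u (hilbEquiv y H Z hH h I₀ hh A φ) := by
  apply Subtype.ext
  rw [hilbEquiv_val, toMor_map, hilbPull_comp, hilbPull_eq_comap]
  rfl

theorem hilbEquiv_symm_map {A A' : Art k k} (u : A ⟶ A') (I : (localHilb Y y I₀).obj A) :
    (hilbEquiv y H Z hH h I₀ hh A').symm ((localHilb Y y I₀).map u I) =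
      HomSet.map u ((hilbEquiv y H Z hH h I₀ hh A).symm I) := by
  rw [Equiv.symm_apply_eq, hilbEquiv_map, Equiv.apply_symm_apply]

end Main

end Groth.Agent.H61.Rep
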