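import Mathlib
import Groth.Agent.H61.Rep.ExtTransport
import Groth.Agent.H61.Lift.RegIdeal
import Groth.Agent.H61.Hilb.NormalHom
import Groth.Agent.H44.ConormalH1
import Groth.Agent.H94.RegImmKinds
import Groth.Agent.H31.ExtLocFree
import Groth.Agent.H31.QuotZSS2
import Groth.Agent.H30.PrinPart

set_option linter.style.haveILetI false
set_option linter.unusedSectionVars false
set_option autoImplicit false

/-!
# Regular closed immersions with `H¹(N) = 0`: the extension property of the conormal module
-/

open CategoryTheory CategoryTheory.Limits AlgebraicGeometry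

attribute [local instance] HasDerivedCategory.standard

namespace Groth.Agent.H61.Rep

universe u

open Groth.Agent.H61.Lift

variable {X Y : Scheme.{u}} (i : Y ⟶ X) [IsClosedImmersion i]

theorem isRegularImmersion_of_mor2 (hreg : Mor2.IsRegularClosedImmersion i) :
    RegImm.IsRegularImmersion RegImm.Kind.regular i := by
  refine ⟨inferInstance, fun z => ?_⟩
  obtain ⟨U, hU, hz, rs, hrs, hI⟩ := hreg.2 z
  refine ⟨⟨U, hU⟩, hz, inferInstance, rs, hrs, ?_⟩
  rw [← hI, Scheme.Hom.ker_apply]

/-- the extension property of the conormal module on the source. -/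
theorem extProp_conormal (hreg : Mor2.IsRegularClosedImmersion i)
    [DCoh.HasSheafHom (Omega.conormal i)]
    (h1 : Subsingleton (Coh.HH Y ((DCoh.sheafHom (Omega.conormal i)).obj
      (Coh.structureModule Y)) 1)) :
    ExtProp (Omega.conormal i) (Coh.structureModule Y) := by
  haveI : HasExt.{u} Y.Modules := Groth.Agent.H31.QuotZSS.hasExt_mod Y.sheaf
  have hlf : FlatMod.IsFinLocFree (Omega.conormal i) :=
    Groth.Agent.H44.isFinLocFree_conormal_of_isRegularImmersion_h1
      (Groth.Agent.H94.RegImmKinds.h1_of_koszul i
        (Groth.Agent.H94.RegImmKinds.koszul_of_regular i (isRegularImmersion_of_mor2 i hreg)))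
  obtain ⟨e⟩ := Groth.Agent.H31.ExtLocFree.nonempty_ext_addEquiv_HH Y (Omega.conormal i)
    (Coh.structureModule Y) hlf 1
  haveI := h1
  exact extProp_of_subsingleton _ _ e.toEquiv.subsingleton

instance isEquivalence_pullback_of_isIso {Z W : Scheme.{u}} (e : Z ⟶ W) [IsIso e] :
    (Scheme.Modules.pullback e).IsEquivalence :=
  (Scheme.Modules.pullbackPushforwardAdjunction e).isEquivalence_left_of_isEquivalence_right

/-- the extension property on the scheme-theoretic image. -/
theorem extProp_subscheme (hreg : Mor2.IsRegularClosedImmersion i)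
    [DCoh.HasSheafHom (Omega.conormal i)]
    (h1 : Subsingleton (Coh.HH Y ((DCoh.sheafHom (Omega.conormal i)).obj
      (Coh.structureModule Y)) 1)) :
    ExtProp ((Scheme.Modules.pullback i.ker.subschemeι).obj (ClSub.idealMod i.ker))
      (Coh.structureModule i.ker.subscheme) := by
  have hY := extProp_conormal i hreg h1
  let e : Y ⟶ i.ker.subscheme := i.toImage
  haveI : IsIso e := inferInstanceAs (IsIso i.toImage)
  let L := Scheme.Modules.pullback e
  let iso1 : L.obj ((Scheme.Modules.pullback i.ker.subschemeι).obj (ClSub.idealMod i.ker)) ≅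
      Omega.conormal i :=
    (Scheme.Modules.pullbackComp i.toImage i.imageι).app (ClSub.idealMod i.ker) ≪≫
      (Scheme.Modules.pullbackCongr i.toImage_imageι).app (ClSub.idealMod i.ker)
  haveI := Groth.Agent.H61.Hilb.NormalHom.isIso_unitToPush e
  haveI : IsIso (Scheme.Modules.pullbackPushforwardAdjunction e).counit := inferInstance
  let iso2 : L.obj (Coh.structureModule i.ker.subscheme) ≅ Coh.structureModule Y :=
    L.mapIso (asIso (ClSub.unitToPush e)) ≪≫
      asIso ((Scheme.Modules.pullbackPushforwardAdjunction e).counit.app (Coh.structureModule Y))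
  exact extProp_of_equivalence L (ExtProp.of_iso hY iso1.symm iso2.symm)

/-- the local regular generators on the scheme-theoretic image. -/
theorem exists_regular_subscheme (hreg : Mor2.IsRegularClosedImmersion i)
    (z : i.ker.subscheme) : ∃ (U : X.Opens) (hU : IsAffineOpen U), i.ker.subschemeι z ∈ U ∧
      ∃ rs : List Γ(X, U), RingTheory.Sequence.IsWeaklyRegular Γ(X, U) rs ∧
        i.ker.ideal ⟨U, hU⟩ = Ideal.ofList rs := by
  haveI : IsIso i.toImage := inferInstance
  obtain ⟨U, hU, hz, rs, hrs, hI⟩ := hreg.2 ((inv i.toImage) z)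
  refine ⟨U, hU, ?_, rs, hrs.toIsWeaklyRegular, hI⟩
  have h1 : i ((inv i.toImage) z) = i.ker.subschemeι z := by
    have h2 : inv i.toImage ≫ i = i.imageι := by
      rw [IsIso.inv_comp_eq, Scheme.Hom.toImage_imageι]
    have h3 : (inv i.toImage ≫ i) z = i.imageι z := by rw [h2]
    exact h3
  rw [← h1]
  exact hz

end Groth.Agent.H61.Rep
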