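import Mathlib
import Groth.Agent.H61.Rep.RegNormal
import Groth.Agent.H61.Hilb.Inj
import Groth.Agent.H63.ArtBasic

set_option linter.style.haveILetI false
set_option linter.unusedSectionVars false
set_option autoImplicit false

/-!
# The local Hilbert functor of a regular closed immersion with `H¹(N) = 0` is smooth
-/

open CategoryTheory CategoryTheory.Limits AlgebraicGeometry

attribute [local instance] HasDerivedCategory.standard

namespace Groth.Agent.H61.Rep

universe u

open Groth.Agent.H61.Lift

variable {k : Type u} [Field k] {X Y : Scheme.{u}} (x : X ⟶ Spec (CommRingCat.of k))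
  (i : Y ⟶ X) [IsClosedImmersion i]

omit [IsClosedImmersion i] in
lemma comap_aux {T T' W : Scheme.{u}} (I' : T.IdealSheafData) (f : T' ⟶ T) (g : W ⟶ T')
    (h : W ⟶ T) (e : g ≫ f = h) (J : T'.IdealSheafData) (hco : I'.comap f = J)
    (K : W.IdealSheafData) (hK : J.comap g = K) : I'.comap h = K := by
  subst e hco hK
  rw [Scheme.IdealSheafData.comap_comp]

theorem isSmoothFunctor_localHilb_of_regular (hreg : Mor2.IsRegularClosedImmersion i)
    [DCoh.HasSheafHom (Omega.conormal i)]
    (h1 : Subsingleton (Coh.HH Y ((DCoh.sheafHom (Omega.conormal i)).obj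
      (Coh.structureModule Y)) 1)) :
    ArtFun.IsSmoothFunctor (ArtFun.localHilb X x i.ker) := by
  have hExt := extProp_subscheme i hreg h1
  have hreg' := exists_regular_subscheme i hreg
  intro B A μ hμ
  refine Groth.Agent.H63.surjective_induction
    (P := fun A B f => Function.Surjective ((ArtFun.localHilb X x i.ker).map f)) ?_ ?_ ?_ μ hμ
  · intro A B e he
    haveI := he
    exact ((isIso_iff_bijective ((ArtFun.localHilb X x i.ker).map e)).1 inferInstance).2
  · intro A B p hp I
    obtain ⟨hsurj, hne, hprin, hann⟩ := hp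
    obtain ⟨t, ht⟩ := hprin.principal
    have hker : RingHom.ker p.toAlgHom.toRingHom = Ideal.span {t} := ht
    have htker : t ∈ RingHom.ker p.toAlgHom := by
      rw [ht]
      exact Ideal.subset_span rfl
    have htm : t ∈ IsLocalRing.maximalIdeal B := Groth.Agent.H63.ker_le_maximalIdeal p htker
    have htne : t ≠ 0 := by
      intro h0
      apply hne
      rw [ht, h0]
      exact Ideal.span_singleton_eq_bot.2 rfl
    have htann : ∀ m ∈ IsLocalRing.maximalIdeal B, m * t = 0 := by
      intro m hm
      have h1 : m * t ∈ IsLocalRing.maximalIdeal B * RingHom.ker p.toAlgHom :=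
        Ideal.mul_mem_mul hm htker
      rw [hann] at h1
      exact h1
    have hnil : IsNilpotent (IsLocalRing.maximalIdeal B) := by
      obtain ⟨n, hn⟩ := Groth.Agent.H63.maximalIdeal_nilpotent B
      exact ⟨n, hn⟩
    obtain ⟨I', hfl, hco⟩ := Groth.Agent.H61.Lift.exists_lift_reg (Groth.Agent.H61.Hilb.xi x B) p
      (Groth.Agent.H61.Hilb.xi x A) (ArtFun.Art.XAmap x p) (ArtFun.Art.isPullback_XAmap x p)
      (ArtFun.Art.XAincl_XAmap x p) I.1 i.ker I.2.1 t hsurj hker htann htne htm hExt hreg' hnil
      I.2.2
    refine ⟨⟨I', hfl, ?_⟩, Subtype.ext hco⟩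
    exact comap_aux I' (ArtFun.Art.XAmap x p) (ArtFun.Art.XAincl x A) (ArtFun.Art.XAincl x B)
      (ArtFun.Art.XAincl_XAmap x p) I.1 hco i.ker I.2.2
  · intro A B C p q hp hq
    rw [Functor.map_comp]
    exact hq.comp hp

end Groth.Agent.H61.Rep
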