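import Mathlib
import Groth.Agent.H63.PSSmooth
import Groth.Agent.H63.ComplCRing
import Groth.Agent.H63.ComplCRingMap
import Groth.Agent.H63.ComplMap
import Groth.Agent.H61.PSDim
import Groth.Agent.Lead.RegularFlatDescent

set_option linter.style.haveILetI false
set_option linter.unusedSectionVars false
set_option autoImplicit false

/-!
# A Noetherian local `k`-algebra with residue field `k` and smooth `h_R` is regular

The functor `h_R` only sees the completion `R̂`; smoothness of `h_{R̂}` makes `R̂` a power series
ring (helper63), which is regular; regularity descends along the flat local map `R → R̂`.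
-/

open CategoryTheory ArtFun ArtFun.Art IsLocalRing

namespace Groth.Agent.H61.Rep

universe u

variable {k : Type u} [Field k] {R : Type u} [CommRing R] [IsLocalRing R] [IsNoetherianRing R]
  [Algebra k R] (res : R →ₐ[k] k)

lemma res_surjective' : Function.Surjective res := fun c => ⟨algebraMap k R c, by simp⟩

lemma ker_res_eq : RingHom.ker (res : R →+* k) = maximalIdeal R :=
  IsLocalRing.ker_eq_maximalIdeal (res : R →+* k) (res_surjective' res)

/-- `R → R̂` is a local homomorphism. -/
theorem isLocalHom_algebraMap_compl :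
    IsLocalHom (algebraMap R (AdicCompletion (RingHom.ker res) R)) := by
  constructor
  intro r hr
  by_contra hnu
  have hrm : r ∈ maximalIdeal R := hnu
  have h0 : res r = 0 := by
    have : r ∈ RingHom.ker (res : R →+* k) := by
      rw [ker_res_eq]
      exact hrm
    exact this
  have h1 : Groth.Agent.H63.complRes R res (algebraMap R _ r) = 0 := by
    rw [Groth.Agent.H63.complRes_of, h0]
  have h2 : IsUnit (Groth.Agent.H63.complRes R res (algebraMap R _ r)) := hr.map _
  rw [h1] at h2
  exact not_isUnit_zero h2

/-- smoothness of `h_R` passes to the completion. -/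
theorem isSmoothFunctor_compl (hsm : IsSmoothFunctor (hR R res)) :
    IsSmoothFunctor (hR (AdicCompletion (RingHom.ker res) R) (Groth.Agent.H63.complRes R res)) := by
  intro B A μ hμ φ
  let φ₀ : HomSet R res A := ⟨φ.1.comp (Groth.Agent.H63.complOf R res), by
    apply AlgHom.ext
    intro r
    have h1 := AlgHom.congr_fun φ.2 (algebraMap R _ r)
    rw [Groth.Agent.H63.complRes_of] at h1
    exact h1⟩
  obtain ⟨ψ₀, hψ₀⟩ := hsm μ hμ φ₀
  obtain ⟨ψ, hψ⟩ := Groth.Agent.H63.exists_homSet_compl (ψ₀ : HomSet R res B).1
    (ψ₀ : HomSet R res B).2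
  refine ⟨ψ, ?_⟩
  apply Groth.Agent.H63.homSet_compl_ext
  intro r
  have h2 : (HomSet.map μ (ψ₀ : HomSet R res B)).1 r = φ₀.1 r :=
    congrArg (fun t : HomSet R res A => t.1 r) hψ₀
  change μ.toAlgHom (ψ.1 (algebraMap R _ r)) = φ.1 (algebraMap R _ r)
  rw [hψ r]
  exact h2

/-- **a Noetherian local `k`-algebra with residue field `k` whose functor `h_R` is smooth is
regular.** -/
theorem isRegularLocalRing_of_isSmoothFunctor (hsm : IsSmoothFunctor (hR R res)) :
    IsRegularLocalRing R := by
  have hres := res_surjective' res
  let T : CRing k k := Groth.Agent.H63.complCRing (R₀ := R) (res₀ := res) hres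
  have hT : IsSmoothFunctor (hR T.carrier T.res) := isSmoothFunctor_compl res hsm
  haveI : IsAdicComplete (maximalIdeal k) k := by
    rw [IsLocalRing.maximalIdeal_eq_bot]
    infer_instance
  obtain ⟨d, ⟨e⟩⟩ := Groth.Agent.H63.exists_equiv_ps_of_smooth
    (fun c => ⟨c, rfl⟩ : Function.Surjective (algebraMap k k)) T hT
  haveI hreg : IsRegularLocalRing (AdicCompletion (RingHom.ker res) R) :=
    IsRegularLocalRing.of_ringEquiv (R := MvPowerSeries (Fin d) k) e.symm.toRingEquiv
  haveI := isLocalHom_algebraMap_compl res
  exact Groth.Agent.Lead.RLR.isRegularLocalRing_of_flat R (AdicCompletion (RingHom.ker res) R)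

end Groth.Agent.H61.Rep
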