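import Mathlib
import Groth.Agent.H61.RegularLifts

set_option linter.style.haveILetI false
set_option linter.unusedSectionVars false
set_option autoImplicit false

/-!
# Counting the tangent space of a functor represented by a local ring

If `h_R ≅ F` for a Noetherian local `k`-algebra `R` with residue field `k`, and `Θ : 𝓗 ≃ F(k[ε])` is a
bijection from a `k`-vector space compatible with the functorial addition and scalar multiplication,
then `dim_k 𝓗` is the embedding dimension of `R`.
-/

open CategoryTheory ArtFun ArtFun.Art IsLocalRing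

namespace Groth.Agent.H61.Rep

universe u

section Alg

variable {k : Type u} [Field k] {R : Type u} [CommRing R] [IsLocalRing R] [Algebra k R]
  (res : R →ₐ[k] k)

lemma fst_homSet (A : Art k k) (φ : HomSet R res A) (r : R) : A.res (φ.1 r) = res r :=
  congrArg (fun f : R →ₐ[k] k => f r) φ.2

/-- the derivation part of a map to the dual numbers. -/
def sndD (φ : HomSet R res (dual k k)) (r : R) : k :=
  TrivSqZeroExt.snd (φ.1 r : DualNumber k)

lemma fstD (φ : HomSet R res (dual k k)) (r : R) :
    TrivSqZeroExt.fst (φ.1 r : DualNumber k) = res r := fst_homSet res (dual k k) φ r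

lemma sndD_add (φ : HomSet R res (dual k k)) (a b : R) :
    sndD res φ (a + b) = sndD res φ a + sndD res φ b := by
  unfold sndD
  rw [map_add]
  rfl

lemma sndD_mul (φ : HomSet R res (dual k k)) (a b : R) :
    sndD res φ (a * b) = res a * sndD res φ b + res b * sndD res φ a := by
  have h1 : ∀ x y : TrivSqZeroExt k k, TrivSqZeroExt.snd (x * y) =
      TrivSqZeroExt.fst x * TrivSqZeroExt.snd y + TrivSqZeroExt.fst y * TrivSqZeroExt.snd x := by
    intro x y
    rw [TrivSqZeroExt.snd_mul, op_smul_eq_smul, smul_eq_mul, smul_eq_mul]
  have h2 : sndD res φ (a * b) = TrivSqZeroExt.snd ((φ.1 a : TrivSqZeroExt k k) *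
      (φ.1 b : TrivSqZeroExt k k)) := by
    unfold sndD
    rw [map_mul]
  have e1 : TrivSqZeroExt.fst (φ.1 a : TrivSqZeroExt k k) = res a := fstD res φ a
  have e2 : TrivSqZeroExt.fst (φ.1 b : TrivSqZeroExt k k) = res b := fstD res φ b
  have h3 := h1 (φ.1 a : TrivSqZeroExt k k) (φ.1 b : TrivSqZeroExt k k)
  rw [e1, e2] at h3
  exact h2.trans h3

lemma sndD_algebraMap (φ : HomSet R res (dual k k)) (c : k) :
    sndD res φ (algebraMap k R c) = 0 := by
  unfold sndD
  rw [AlgHom.commutes]
  rfl

lemma homSet_dual_ext (φ ψ : HomSet R res (dual k k)) (h : ∀ r, sndD res φ r = sndD res ψ r) :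
    φ = ψ := by
  apply Subtype.ext
  apply AlgHom.ext
  intro r
  apply TrivSqZeroExt.ext
  · exact (fstD res φ r).trans (fstD res ψ r).symm
  · exact h r

/-- the map to the dual numbers attached to a derivation. -/
def ofDer (D : R → k) (hadd : ∀ a b, D (a + b) = D a + D b)
    (hmul : ∀ a b, D (a * b) = res a * D b + res b * D a) (halg : ∀ c, D (algebraMap k R c) = 0) :
    HomSet R res (dual k k) :=
  ⟨{ toFun := fun r => ((res r, D r) : TrivSqZeroExt k k)
     map_one' := by
       apply TrivSqZeroExt.ext
       · exact map_one res
       · change D 1 = 0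
         have := halg 1
         rwa [map_one] at this
     map_mul' := fun a b => by
       apply TrivSqZeroExt.ext
       · exact map_mul res a b
       · have h1 : ∀ x y : TrivSqZeroExt k k, TrivSqZeroExt.snd (x * y) =
             TrivSqZeroExt.fst x * TrivSqZeroExt.snd y +
               TrivSqZeroExt.fst y * TrivSqZeroExt.snd x := by
           intro x y
           rw [TrivSqZeroExt.snd_mul, op_smul_eq_smul, smul_eq_mul, smul_eq_mul]
         exact (hmul a b).trans (h1 (res a, D a) (res b, D b)).symm
     map_zero' := by
       apply TrivSqZeroExt.ext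
       · exact map_zero res
       · change D 0 = 0
         have := halg 0
         rwa [map_zero] at this
     map_add' := fun a b => by
       apply TrivSqZeroExt.ext
       · exact map_add res a b
       · exact hadd a b
     commutes' := fun c => by
       apply TrivSqZeroExt.ext
       · change res (algebraMap k R c) = _
         rw [AlgHom.commutes]
         rfl
       · change D (algebraMap k R c) = _
         rw [halg]
         rfl }, by
    apply AlgHom.ext
    intro r
    rfl⟩

lemma sndD_ofDer (D : R → k) (hadd : ∀ a b, D (a + b) = D a + D b)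
    (hmul : ∀ a b, D (a * b) = res a * D b + res b * D a) (halg : ∀ c, D (algebraMap k R c) = 0)
    (r : R) : sndD res (ofDer res D hadd hmul halg) r = D r := rfl

lemma sndD_map_scale (c : k) (φ : HomSet R res (dual k k)) (r : R) :
    sndD res (HomSet.map (scale c) φ) r = c * sndD res φ r := rfl

lemma sndD_map_pr₁ (z : HomSet R res (dual2 k k)) (r : R) :
    sndD res (HomSet.map pr₁ z) r = (TrivSqZeroExt.snd (z.1 r : TrivSqZeroExt k (k × k))).1 := rfl

lemma sndD_map_pr₂ (z : HomSet R res (dual2 k k)) (r : R) :
    sndD res (HomSet.map pr₂ z) r = (TrivSqZeroExt.snd (z.1 r : TrivSqZeroExt k (k × k))).2 := rfl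

lemma sndD_map_plus (z : HomSet R res (dual2 k k)) (r : R) :
    sndD res (HomSet.map plus z) r = (TrivSqZeroExt.snd (z.1 r : TrivSqZeroExt k (k × k))).1 +
      (TrivSqZeroExt.snd (z.1 r : TrivSqZeroExt k (k × k))).2 := rfl

end Alg

section Count

variable {k : Type u} [Field k] {R : Type u} [CommRing R] [IsLocalRing R] [IsNoetherianRing R]
  [Algebra k R] (res : R →ₐ[k] k)

/-- **the tangent space of a functor represented by a local ring has the dimension of the cotangent
space.** -/
theorem finrank_eq_of_tangent_iso (F : Art k k ⥤ Type u)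
    (η : ∀ A : Art k k, HomSet R res A ≃ F.obj A)
    (hη : ∀ {A A' : Art k k} (u : A ⟶ A') (φ : HomSet R res A),
      η A' (HomSet.map u φ) = F.map u (η A φ))
    {𝓗 : Type u} [AddCommGroup 𝓗] [Module k 𝓗] (Θ : 𝓗 ≃ F.obj (dual k k))
    (hadd : ∀ a b : 𝓗, ∃ P : F.obj (dual2 k k),
      F.map pr₁ P = Θ a ∧ F.map pr₂ P = Θ b ∧ F.map plus P = Θ (a + b))
    (hsmul : ∀ (c : k) (a : 𝓗), F.map (scale c) (Θ a) = Θ (c • a)) :
    Module.finrank k 𝓗 = Module.finrank (ResidueField R) (CotangentSpace R) := by
  classical
  set d := Module.finrank (ResidueField R) (CotangentSpace R) with hd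
  -- generators of the maximal ideal
  have hsf : (maximalIdeal R).spanFinrank = d :=
    IsLocalRing.spanFinrank_maximalIdeal_eq_finrank_cotangentSpace R
  have hfg : (maximalIdeal R).FG := IsNoetherian.noetherian _
  have hfin := Submodule.FG.finite_generators hfg
  have hcard : hfin.toFinset.card = d := by
    rw [← Set.ncard_eq_toFinset_card _ hfin, Submodule.FG.generators_ncard hfg, hsf]
  obtain ⟨x, hx⟩ := Groth.Agent.Lead.RLR.exists_fin_range_eq hfin.toFinset d hcard
  have hxspan : Ideal.span (Set.range x) = maximalIdeal R := by
    rw [hx, Set.Finite.coe_toFinset]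
    exact Submodule.span_generators _
  obtain ⟨L, hLadd, hLmul, hLalg, hLx⟩ := exists_coordinate_derivations res x hxspan hd.symm
  have hres_surj : Function.Surjective res := fun c => ⟨algebraMap k R c, by simp⟩
  have hker : RingHom.ker (res : R →+* k) = maximalIdeal R :=
    IsLocalRing.ker_eq_maximalIdeal (res : R →+* k) hres_surj
  have hxres : ∀ i, res (x i) = 0 := by
    intro i
    have : x i ∈ RingHom.ker (res : R →+* k) := by
      rw [hker, ← hxspan]
      exact Ideal.subset_span ⟨i, rfl⟩
    exact this
  -- the transported elements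
  let ψ : 𝓗 → HomSet R res (dual k k) := fun a => (η (dual k k)).symm (Θ a)
  have hψadd : ∀ a b r, sndD res (ψ (a + b)) r = sndD res (ψ a) r + sndD res (ψ b) r := by
    intro a b r
    obtain ⟨P, h1, h2, h3⟩ := hadd a b
    set z := (η (dual2 k k)).symm P with hz
    have hzP : η (dual2 k k) z = P := Equiv.apply_symm_apply _ _
    have e1 : HomSet.map pr₁ z = ψ a := by
      apply (η (dual k k)).injective
      rw [hη, hzP, h1]
      exact (Equiv.apply_symm_apply _ _).symm
    have e2 : HomSet.map pr₂ z = ψ b := by
      apply (η (dual k k)).injective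
      rw [hη, hzP, h2]
      exact (Equiv.apply_symm_apply _ _).symm
    have e3 : HomSet.map plus z = ψ (a + b) := by
      apply (η (dual k k)).injective
      rw [hη, hzP, h3]
      exact (Equiv.apply_symm_apply _ _).symm
    rw [← e1, ← e2, ← e3, sndD_map_plus, sndD_map_pr₁, sndD_map_pr₂]
  have hψsmul : ∀ (c : k) a r, sndD res (ψ (c • a)) r = c * sndD res (ψ a) r := by
    intro c a r
    have e : HomSet.map (scale c) (ψ a) = ψ (c • a) := by
      apply (η (dual k k)).injective
      rw [hη]
      change F.map (scale c) (η (dual k k) ((η (dual k k)).symm (Θ a))) = _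
      rw [Equiv.apply_symm_apply, hsmul]
      exact (Equiv.apply_symm_apply _ _).symm
    rw [← e, sndD_map_scale]
  -- the evaluation map
  let ev : 𝓗 →ₗ[k] (Fin d → k) :=
    { toFun := fun a i => sndD res (ψ a) (x i)
      map_add' := fun a b => by
        funext i
        exact hψadd a b (x i)
      map_smul' := fun c a => by
        funext i
        exact hψsmul c a (x i) }
  have hev : ∀ a i, ev a i = sndD res (ψ a) (x i) := fun _ _ => rfl
  -- a derivation killing the generators vanishes
  have hvan : ∀ φ φ' : HomSet R res (dual k k), (∀ i, sndD res φ (x i) = sndD res φ' (x i)) →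
      φ = φ' := by
    intro φ φ' hφ
    apply homSet_dual_ext
    have hm : ∀ r ∈ maximalIdeal R, sndD res φ r = sndD res φ' r := by
      intro r hr
      rw [← hxspan] at hr
      induction hr using Submodule.span_induction with
      | mem y hy =>
        obtain ⟨i, rfl⟩ := hy
        exact hφ i
      | zero =>
        have h0 := sndD_algebraMap res φ 0
        have h0' := sndD_algebraMap res φ' 0
        rw [map_zero] at h0 h0'
        rw [h0, h0']
      | add y y' _ _ hy hy' => rw [sndD_add, sndD_add, hy, hy']
      | smul a y hy ih =>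
        have hyres : res y = 0 := by
          have : y ∈ RingHom.ker (res : R →+* k) := by
            rw [hker, ← hxspan]
            exact hy
          exact this
        rw [smul_eq_mul, sndD_mul, sndD_mul, ih, hyres, zero_mul, zero_mul]
    intro r
    have hr : r - algebraMap k R (res r) ∈ maximalIdeal R := by
      rw [← hker, RingHom.mem_ker]
      simp
    have e : r = (r - algebraMap k R (res r)) + algebraMap k R (res r) := by ring
    rw [e, sndD_add, sndD_add, hm _ hr, sndD_algebraMap, sndD_algebraMap]
  have hinj : Function.Injective ev := by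
    intro a b hab
    have h1 : ψ a = ψ b := hvan _ _ (fun i => by
      rw [← hev, ← hev, hab])
    have h2 : Θ a = Θ b := (η (dual k k)).symm.injective h1
    exact Θ.injective h2
  have hsurj : Function.Surjective ev := by
    intro c
    let D : R → k := fun r => ∑ i, c i * L i r
    have hDadd : ∀ a b, D (a + b) = D a + D b := by
      intro a b
      simp only [D, hLadd, mul_add, Finset.sum_add_distrib]
    have hDmul : ∀ a b, D (a * b) = res a * D b + res b * D a := by
      intro a b
      simp only [D, hLmul, mul_add, Finset.sum_add_distrib, Finset.mul_sum]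
      congr 1 <;> exact Finset.sum_congr rfl (fun i _ => by ring)
    have hDalg : ∀ r, D (algebraMap k R r) = 0 := by
      intro r
      simp only [D, hLalg, mul_zero, Finset.sum_const_zero]
    have hDx : ∀ j, D (x j) = c j := by
      intro j
      simp only [D, hLx]
      rw [Finset.sum_eq_single j]
      · simp
      · intro i _ hij
        simp [hij]
      · simp
    refine ⟨Θ.symm (η (dual k k) (ofDer res D hDadd hDmul hDalg)), ?_⟩
    funext j
    rw [hev]
    change sndD res ((η (dual k k)).symm (Θ (Θ.symm (η (dual k k) (ofDer res D hDadd hDmul hDalg)))))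
      (x j) = c j
    rw [Equiv.apply_symm_apply, Equiv.symm_apply_apply, sndD_ofDer, hDx]
  have e := LinearEquiv.ofBijective ev ⟨hinj, hsurj⟩
  rw [e.finrank_eq, Module.finrank_fin_fun]

end Count

end Groth.Agent.H61.Rep
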